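import Groth.Agent.SectDim.Alg
import Mathlib.AlgebraicGeometry.Morphisms.FinitePresentation
import Mathlib.Topology.KrullDimension
import Mathlib.RingTheory.LocalRing.ResidueField.Ideal

/-! The dimension of the fibrewise closure of a family of sections drops under specialization. -/

set_option autoImplicit false
universe u
open CategoryTheory AlgebraicGeometry Topology TopologicalSpace

namespace Groth.Agent.SectDim

/-- Dimension can be computed on an open cover. -/
theorem topologicalKrullDim_le_of_forall_open {T : Type u} [TopologicalSpace T] (r : WithBot ℕ∞)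
    (h : ∀ x : T, ∃ U : Set T, IsOpen U ∧ x ∈ U ∧ topologicalKrullDim U ≤ r) : topologicalKrullDim T ≤ r := by
  refine iSup_le fun l => ?_
  obtain ⟨x, hx⟩ := l.head.isIrreducible.nonempty
  obtain ⟨U, hU, hxU, hr⟩ := h x
  refine le_trans ?_ hr
  let e := IrreducibleCloseds.orderIsoOfIsOpenEmbedding _ hU.isOpenEmbedding_subtypeVal
  have hmem : ∀ i, l i ∈ {V : IrreducibleCloseds T | ((Subtype.val : U → T) ⁻¹' V).Nonempty} := fun i =>
    ⟨⟨x, hxU⟩, (l.monotone (Fin.zero_le i) : (l.head : Set T) ⊆ l i) hx⟩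
  exact le_iSup_of_le (LTSeries.mk l.length (fun i => e.symm ⟨l i, hmem i⟩)
    (fun i j hij => e.symm.strictMono (show (⟨l i, hmem i⟩ : {V : IrreducibleCloseds T | _}) < ⟨l j, hmem j⟩ from
      l.strictMono hij))) le_rfl

theorem exists_frac {R : Type u} [CommRing R] (p : Ideal R) [p.IsPrime] (c : p.ResidueField) :
    ∃ a s : R, algebraMap R p.ResidueField s ≠ 0 ∧
      c * algebraMap R p.ResidueField s = algebraMap R p.ResidueField a := by
  obtain ⟨x, y, hy, rfl⟩ := IsFractionRing.div_surjective (R ⧸ p) c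
  obtain ⟨a, rfl⟩ := Ideal.Quotient.mk_surjective x
  obtain ⟨s, rfl⟩ := Ideal.Quotient.mk_surjective y
  have hs : algebraMap R p.ResidueField s ≠ 0 := by
    rw [Ne, ← RingHom.mem_ker, Ideal.ker_algebraMap_residueField]
    exact fun h => nonZeroDivisors.ne_zero hy (Ideal.Quotient.eq_zero_iff_mem.2 h)
  refine ⟨a, s, hs, ?_⟩
  exact div_mul_cancel₀ _ hs

theorem topologicalKrullDim_closure_sections_le {S Y : Scheme.{u}} (f : Y ⟶ S) [LocallyOfFiniteType f]
    {ι : Type u} (a : ι → (S ⟶ Y)) (ha : ∀ i, a i ≫ f = 𝟙 S) {s₀ s₁ : S} (h : s₁ ⤳ s₀) :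
    topologicalKrullDim ↥(f.base ⁻¹' {s₀} ∩ closure (Set.range fun i => (a i).base s₀)) ≤
      topologicalKrullDim ↥(f.base ⁻¹' {s₁} ∩ closure (Set.range fun i => (a i).base s₁)) := by
  refine topologicalKrullDim_le_of_forall_open _ fun y => ?_
  obtain ⟨y, hyf, hyc⟩ := y
  obtain ⟨T, hT, hsT, -⟩ := exists_isAffineOpen_mem_and_subset (U := (⊤ : S.Opens)) (x := s₀) trivial
  obtain ⟨U, hU, hyU, hUT⟩ := exists_isAffineOpen_mem_and_subset (U := f ⁻¹ᵁ T) (x := y)
    (show f.base y ∈ T by rw [show f.base y = s₀ from hyf]; exact hsT)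
  have hs₁T : s₁ ∈ T := h.mem_open T.2 hsT
  refine ⟨Subtype.val ⁻¹' (U : Set Y), U.2.preimage continuous_subtype_val, hyU, ?_⟩
  let α : Γ(S, T) ⟶ Γ(Y, U) := f.appLE T U hUT
  let p₀ := (hT.primeIdealOf ⟨s₀, hsT⟩).asIdeal
  let p₁ := (hT.primeIdealOf ⟨s₁, hs₁T⟩).asIdeal
  have hp₀ : hT.fromSpec.base (hT.primeIdealOf ⟨s₀, hsT⟩) = s₀ := hT.fromSpec_primeIdealOf _
  have hp₁ : hT.fromSpec.base (hT.primeIdealOf ⟨s₁, hs₁T⟩) = s₁ := hT.fromSpec_primeIdealOf _
  have hle : p₁ ≤ p₀ := by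
    refine (PrimeSpectrum.le_iff_specializes _ _).2 (hT.fromSpec.isOpenEmbedding.toIsInducing.specializes_iff.1 ?_)
    show hT.fromSpec.base _ ⤳ hT.fromSpec.base _
    rw [hp₀, hp₁]
    exact h
  let L := Localization.AtPrime p₀
  let φ : Γ(S, T) →+* L := algebraMap _ L
  have hunit : ∀ r : p₀.primeCompl, IsUnit (algebraMap Γ(S, T) p₁.ResidueField r) := fun r =>
    Ne.isUnit fun h0 => r.2 (hle (by rwa [← RingHom.mem_ker, Ideal.ker_algebraMap_residueField] at h0))
  let η : L →+* p₁.ResidueField := IsLocalization.lift hunit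
  have hη : η.comp φ = algebraMap Γ(S, T) p₁.ResidueField := IsLocalization.lift_comp hunit
  let J := {i : ι // (a i).base s₀ ∈ U}
  let g : J → (Spec (CommRingCat.of L) ⟶ Y) := fun j => Spec.map (CommRingCat.ofHom φ) ≫ hT.fromSpec ≫ a j.1
  have hg : ∀ j, Set.range (g j).base ⊆ Set.range hU.fromSpec.base := by
    rintro j _ ⟨x, rfl⟩
    rw [hU.range_fromSpec]
    refine ((IsLocalRing.specializes_closedPoint (R := L) x).map (g j).continuous).mem_open U.2 ?_
    show (g j).base (IsLocalRing.closedPoint L) ∈ U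
    simp only [g, Scheme.Hom.comp_apply]
    rw [show (Spec.map (CommRingCat.ofHom φ)).base (IsLocalRing.closedPoint L) = hT.primeIdealOf ⟨s₀, hsT⟩ from
      PrimeSpectrum.ext (IsLocalization.AtPrime.comap_maximalIdeal L p₀)]
    erw [hp₀]
    exact j.2
  let e : J → (Γ(Y, U) →+* L) := fun j => (Spec.preimage (IsOpenImmersion.lift hU.fromSpec (g j) (hg j))).hom
  have he : ∀ j, Spec.map (CommRingCat.ofHom (e j)) ≫ hU.fromSpec = g j := fun j => by
    simp [e, IsOpenImmersion.lift_fac]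
  have hfac : Spec.map α ≫ hT.fromSpec = hU.fromSpec ≫ f := IsAffineOpen.SpecMap_appLE_fromSpec f hT hU hUT
  have heα : ∀ j, (e j).comp α.hom = φ := by
    intro j
    have h1 : Spec.map (α ≫ CommRingCat.ofHom (e j)) = Spec.map (CommRingCat.ofHom φ) := by
      rw [← cancel_mono hT.fromSpec, Spec.map_comp, Category.assoc, hfac, reassoc_of% (he j)]
      simp [g, ha]
    exact congrArg CommRingCat.Hom.hom (Spec.map_injective h1)
  have hfin : α.hom.FiniteType := f.finiteType_appLE hT hU hUT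
  -- the two evaluation maps
  let ev₀ : Γ(Y, U) →+* (J → p₀.ResidueField) := Pi.ringHom fun j => (IsLocalRing.residue L).comp (e j)
  let ev₁ : Γ(Y, U) →+* (J → p₁.ResidueField) := Pi.ringHom fun j => η.comp (e j)
  have hev₀ : ∀ r, ev₀ (α.hom r) = fun _ => algebraMap Γ(S, T) p₀.ResidueField r := fun r => funext fun j =>
    congrArg (IsLocalRing.residue L) (RingHom.congr_fun (heα j) r)
  have hev₁ : ∀ r, ev₁ (α.hom r) = fun _ => algebraMap Γ(S, T) p₁.ResidueField r := fun r => funext fun j =>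
    (congrArg η (RingHom.congr_fun (heα j) r)).trans (RingHom.congr_fun hη r)
  -- evaluation points
  have hpt : ∀ {k : Type u} [Field k] (ψ : L →+* k) (s : S) (hs : s ∈ T)
      (hker : RingHom.ker (ψ.comp φ) = (hT.primeIdealOf ⟨s, hs⟩).asIdeal) (j : J),
      hU.fromSpec.base ⟨RingHom.ker (ψ.comp (e j)), RingHom.ker_isPrime _⟩ = (a j.1).base s := by
    intro k _ ψ s hs hker j
    have h1 := congrArg (fun m : Spec (CommRingCat.of L) ⟶ Y => m.base ⟨RingHom.ker ψ, RingHom.ker_isPrime _⟩) (he j)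
    simp only [g, Scheme.Hom.comp_apply] at h1
    refine h1.trans ?_
    rw [show (Spec.map (CommRingCat.ofHom φ)).base ⟨RingHom.ker ψ, RingHom.ker_isPrime _⟩ =
      hT.primeIdealOf ⟨s, hs⟩ from PrimeSpectrum.ext hker]
    exact congrArg _ (hT.fromSpec_primeIdealOf _)
  have hfib : ∀ (q : PrimeSpectrum Γ(Y, U)) (s : S) (hs : s ∈ T),
      f.base (hU.fromSpec.base q) = s ↔ q.asIdeal.comap α.hom = (hT.primeIdealOf ⟨s, hs⟩).asIdeal := by
    intro q s hs
    have h1 : hT.fromSpec.base ((Spec.map α).base q) = f.base (hU.fromSpec.base q) := by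
      rw [← Scheme.Hom.comp_apply, hfac, Scheme.Hom.comp_apply]
    rw [← h1]
    have h2 : hT.fromSpec.base (hT.primeIdealOf ⟨s, hs⟩) = s := hT.fromSpec_primeIdealOf _
    rw [show (hT.fromSpec.base ((Spec.map α).base q) = s) ↔
      hT.fromSpec.base ((Spec.map α).base q) = hT.fromSpec.base (hT.primeIdealOf ⟨s, hs⟩) by rw [h2]]
    rw [hT.fromSpec.isOpenEmbedding.injective.eq_iff]
    exact PrimeSpectrum.ext_iff
  have hk₀ : RingHom.ker ((IsLocalRing.residue L).comp φ) = p₀ := Ideal.ker_algebraMap_residueField p₀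
  have hk₁ : RingHom.ker (η.comp φ) = p₁ := by rw [hη]; exact Ideal.ker_algebraMap_residueField p₁
  let G₀ : PrimeSpectrum (E ev₀) → Y := hU.fromSpec.base ∘ PrimeSpectrum.comap (evE ev₀)
  let G₁ : PrimeSpectrum (E ev₁) → Y := hU.fromSpec.base ∘ PrimeSpectrum.comap (evE ev₁)
  have hG₀ : IsInducing G₀ :=
    hU.fromSpec.isOpenEmbedding.toIsInducing.comp (isInducing_comap hev₀ (exists_frac p₀))
  have hG₁ : IsInducing G₁ :=
    hU.fromSpec.isOpenEmbedding.toIsInducing.comp (isInducing_comap hev₁ (exists_frac p₁))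
  have hmem₁ : ∀ x, G₁ x ∈ f.base ⁻¹' {s₁} ∩ closure (Set.range fun i => (a i).base s₁) := by
    intro x
    obtain ⟨hker, hcomap⟩ := (Set.ext_iff.1 (range_comap hev₁ (exists_frac p₁)) _).1 ⟨x, rfl⟩
    refine ⟨(hfib _ s₁ hs₁T).2 (hcomap.trans (Ideal.ker_algebraMap_residueField p₁)), ?_⟩
    refine map_mem_closure hU.fromSpec.continuous
      (s := Set.range fun j : J => (⟨RingHom.ker (η.comp (e j)), RingHom.ker_isPrime _⟩ : PrimeSpectrum Γ(Y, U))) ?_ ?_
    · rw [(PrimeSpectrum.isTopologicalBasis_basic_opens).mem_closure_iff]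
      rintro _ ⟨b, rfl⟩ hb
      by_contra hne
      refine hb (hker (funext fun j => ?_))
      by_contra hbj
      exact hne ⟨⟨RingHom.ker (η.comp (e j)), RingHom.ker_isPrime _⟩, hbj, j, rfl⟩
    · rintro _ ⟨j, rfl⟩
      exact ⟨j.1, (hpt η s₁ hs₁T hk₁ j).symm⟩
  have hrange₀ : ∀ z ∈ f.base ⁻¹' {s₀} ∩ closure (Set.range fun i => (a i).base s₀), z ∈ U → z ∈ Set.range G₀ := by
    rintro z ⟨hzf, hzc⟩ hzU
    obtain ⟨q, rfl⟩ : z ∈ Set.range hU.fromSpec.base := by rw [hU.range_fromSpec]; exact hzU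
    have hker : RingHom.ker ev₀ ≤ q.asIdeal := by
      intro b hb
      by_contra hbq
      obtain ⟨w, ⟨q', hq', rfl⟩, i, hi⟩ := mem_closure_iff.1 hzc _
        (hU.fromSpec.isOpenEmbedding.isOpenMap _ (PrimeSpectrum.basicOpen b).2) ⟨q, hbq, rfl⟩
      have hiU : (a i).base s₀ ∈ U := by
        rw [show (a i).base s₀ = hU.fromSpec.base q' from hi, ← SetLike.mem_coe, ← hU.range_fromSpec]
        exact ⟨q', rfl⟩
      have hqe := hU.fromSpec.isOpenEmbedding.injective ((hpt (IsLocalRing.residue L) s₀ hsT hk₀ ⟨i, hiU⟩).trans hi)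
      exact hq' (hqe ▸ congrFun hb ⟨i, hiU⟩)
    obtain ⟨x, hx⟩ := (Set.ext_iff.1 (range_comap hev₀ (exists_frac p₀)) q).2
      ⟨hker, ((hfib q s₀ hsT).1 hzf).trans (Ideal.ker_algebraMap_residueField p₀).symm⟩
    exact ⟨x, congrArg hU.fromSpec.base hx⟩
  haveI : Nonempty J := by
    obtain ⟨w, hwU, i, hi⟩ := mem_closure_iff.1 hyc U U.2 hyU
    exact ⟨⟨i, by rw [show (a i).base s₀ = w from hi]; exact hwU⟩⟩
  obtain ⟨d, x, hd, hindep⟩ := exists_dim_eq hfin hev₀ (exists_frac p₀)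
  have hd₁ : (d : WithBot ℕ∞) ≤ ringKrullDim (E ev₁) :=
    natCast_le_dim hfin hev₁ x (indep_of_indep_residue η (fun j l => e j (x l)) hindep)
  rw [← PrimeSpectrum.topologicalKrullDim_eq_ringKrullDim] at hd₁ hd
  refine le_trans ?_ ((hd.le.trans hd₁).trans
    (hG₁.codRestrict hmem₁).topologicalKrullDim_le)
  choose σ hσ using fun z : ↥(Subtype.val ⁻¹' (U : Set Y) :
      Set ↥(f.base ⁻¹' {s₀} ∩ closure (Set.range fun i => (a i).base s₀))) => hrange₀ z.1.1 z.1.2 z.2
  refine (IsInducing.topologicalKrullDim_le (f := σ) ?_)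
  rw [← hG₀.of_comp_iff]
  convert IsInducing.subtypeVal.comp IsInducing.subtypeVal using 1
  exact funext hσ

end Groth.Agent.SectDim
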