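import Groth.Agent.BertiniAff.Basic
import Groth.Agent.VarDim.Basic
import Mathlib.RingTheory.NoetherNormalization
import Mathlib.RingTheory.Valuation.LocalSubring
import Mathlib.RingTheory.LocalRing.ResidueField.Basic

/-! Algebraic core of the semicontinuity of the dimension of the closure of a family of sections. -/

set_option autoImplicit false
universe u w
open MvPolynomial

namespace Groth.Agent.SectDim

/-- A polynomial relation over the fraction side specializes to a relation over the residue field. -/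
theorem indep_of_indep_residue {L : Type u} [CommRing L] [IsLocalRing L] {K : Type u} [Field K] (η : L →+* K)
    {n : ℕ} {I : Type w} (r : I → Fin n → L)
    (h : ∀ Q : MvPolynomial (Fin n) (IsLocalRing.ResidueField L),
      (∀ i, eval (fun l => IsLocalRing.residue L (r i l)) Q = 0) → Q = 0)
    (P : MvPolynomial (Fin n) K) (hP : ∀ i, eval (fun l => η (r i l)) P = 0) : P = 0 := by
  classical
  by_contra hP0
  obtain ⟨V, hle, hloc⟩ := (LocalSubring.range η).exists_le_valuationSubring
  let ν : L →+* V := (Subring.inclusion hle).comp η.rangeRestrict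
  have hν : ∀ l, ((ν l : V) : K) = η l := fun _ => rfl
  haveI : IsLocalHom ν := ⟨fun l hl => by
    haveI := hloc
    exact η.rangeRestrict_surjective.isLocalHom.map_nonunit l
      (IsUnit.of_map (Subring.inclusion hle) _ hl)⟩
  obtain ⟨m₀, hm₀, hmax⟩ := P.support.exists_max_image (fun m => V.valuation (P.coeff m))
    (MvPolynomial.support_nonempty.2 hP0)
  have hc0 : P.coeff m₀ ≠ 0 := mem_support_iff.1 hm₀
  have hv0 : 0 < V.valuation (P.coeff m₀) := zero_lt_iff.2 ((Valuation.ne_zero_iff _).2 hc0)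
  let P' : MvPolynomial (Fin n) K := C (P.coeff m₀)⁻¹ * P
  have hmem : ∀ m, P'.coeff m ∈ V := by
    intro m
    rw [coeff_C_mul, ← ValuationSubring.valuation_le_one_iff, map_mul, map_inv₀, inv_mul_le_one₀ hv0]
    by_cases hm : m ∈ P.support
    · exact hmax m hm
    · rw [notMem_support_iff.1 hm, map_zero]; exact zero_le
  let κ := IsLocalRing.ResidueField L
  let kV := IsLocalRing.ResidueField V
  letI : Algebra κ kV := (IsLocalRing.ResidueField.map ν).toAlgebra
  have hz : ∀ i, (∑ m ∈ P'.support, IsLocalRing.residue V ⟨P'.coeff m, hmem m⟩ *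
      algebraMap κ kV (∏ l, IsLocalRing.residue L (r i l) ^ m l)) = 0 := by
    intro i
    have hsum : (∑ m ∈ P'.support, (⟨P'.coeff m, hmem m⟩ : V) * ∏ l, ν (r i l) ^ m l) = 0 := by
      apply Subtype.val_injective
      push_cast
      simp only [hν, ← eval_eq']
      show eval (fun l => η (r i l)) (C _ * P) = 0
      rw [map_mul, hP i, mul_zero]
    have := congrArg (IsLocalRing.residue V) hsum
    rw [map_sum, map_zero] at this
    refine Eq.trans (Finset.sum_congr rfl fun m _ => ?_) this
    rw [map_mul, map_prod, map_prod]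
    refine congrArg _ (Finset.prod_congr rfl fun l _ => ?_)
    rw [map_pow, map_pow]
    exact congrArg (· ^ m l) (IsLocalRing.ResidueField.map_residue ν (r i l))
  obtain ⟨lam, hlam⟩ := (Algebra.linearMap κ kV).exists_leftInverse_of_injective
    (LinearMap.ker_eq_bot.2 (algebraMap κ kV).injective)
  have hlam1 : ∀ a : κ, lam (algebraMap κ kV a) = a := fun a => LinearMap.congr_fun hlam a
  let Q : MvPolynomial (Fin n) κ :=
    ∑ m ∈ P'.support, monomial m (lam (IsLocalRing.residue V ⟨P'.coeff m, hmem m⟩))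
  have hQ : Q = 0 := by
    refine h Q fun i => ?_
    have := congrArg lam (hz i)
    rw [map_sum, map_zero] at this
    rw [map_sum]
    refine Eq.trans (Finset.sum_congr rfl fun m _ => ?_) this
    rw [eval_monomial, mul_comm (IsLocalRing.residue V _) (algebraMap κ kV _), ← Algebra.smul_def, map_smul,
      smul_eq_mul, mul_comm, Finsupp.prod_fintype _ _ (fun _ => pow_zero _)]
  have h1 : P'.coeff m₀ = 1 := by rw [coeff_C_mul, inv_mul_cancel₀ hc0]
  have hm₀' : m₀ ∈ P'.support := mem_support_iff.2 (by rw [h1]; exact one_ne_zero)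
  have := congrArg (coeff m₀) hQ
  rw [coeff_sum, coeff_zero, Finset.sum_eq_single m₀ (fun m _ hm => by rw [coeff_monomial, if_neg hm])
    (fun h => absurd hm₀' h), coeff_monomial, if_pos rfl] at this
  rw [show (⟨P'.coeff m₀, hmem m₀⟩ : V) = 1 from Subtype.ext h1, map_one, ← map_one (algebraMap κ kV),
    hlam1] at this
  exact one_ne_zero this

section Values

variable {R A k : Type u} [CommRing R] [CommRing A] [Field k] (α : R →+* A) (φ : R →+* k)
  {J : Type u} (ev : A →+* (J → k))

/-- The algebra of functions on the points. -/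
abbrev E : Subalgebra k (J → k) := Algebra.adjoin k (Set.range ev)

def evE : A →+* E ev where
  toFun a := ⟨ev a, Algebra.subset_adjoin ⟨a, rfl⟩⟩
  map_one' := Subtype.ext (map_one ev)
  map_mul' a b := Subtype.ext (map_mul ev a b)
  map_zero' := Subtype.ext (map_zero ev)
  map_add' a b := Subtype.ext (map_add ev a b)

variable {α φ ev}

theorem finiteType_E (hα : α.FiniteType) (hev : ∀ r, ev (α r) = fun _ => φ r) :
    Algebra.FiniteType k (E ev) := by
  letI := α.toAlgebra
  obtain ⟨g, hg⟩ := (show Algebra.FiniteType R A from hα).out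
  classical
  refine (Subalgebra.fg_iff_finiteType _).1 ⟨g.image ev, ?_⟩
  refine le_antisymm (Algebra.adjoin_mono fun x hx => ?_) (Algebra.adjoin_le ?_)
  · simp at hx
    obtain ⟨a, -, rfl⟩ := hx
    exact ⟨a, rfl⟩
  rintro _ ⟨a, rfl⟩
  have ha : a ∈ Algebra.adjoin R (g : Set A) := hg ▸ Algebra.mem_top
  induction ha using Algebra.adjoin_induction with
  | mem a ha => exact Algebra.subset_adjoin (by simp; exact ⟨a, ha, rfl⟩)
  | algebraMap r =>
    rw [show algebraMap R A r = α r from rfl, hev]
    exact Subalgebra.algebraMap_mem _ (φ r)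
  | add x y _ _ hx hy => rw [map_add]; exact add_mem hx hy
  | mul x y _ _ hx hy => rw [map_mul]; exact mul_mem hx hy

theorem exists_smul_eq (hev : ∀ r, ev (α r) = fun _ => φ r)
    (hfrac : ∀ c : k, ∃ a s : R, φ s ≠ 0 ∧ c * φ s = φ a) {z : J → k} (hz : z ∈ E ev) :
    ∃ (s : R) (a : A), φ s ≠ 0 ∧ ev a = φ s • z := by
  induction hz using Algebra.adjoin_induction with
  | mem x hx =>
    obtain ⟨a, rfl⟩ := hx
    exact ⟨1, a, by simp, by simp⟩
  | algebraMap c =>
    obtain ⟨a, s, hs, he⟩ := hfrac c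
    refine ⟨s, α a, hs, ?_⟩
    rw [hev]
    funext j
    simp [← he, mul_comm]
  | add x y _ _ hx hy =>
    obtain ⟨s, a, hs, he⟩ := hx
    obtain ⟨t, b, ht, he'⟩ := hy
    refine ⟨s * t, α t * a + α s * b, by simp [hs, ht], ?_⟩
    funext j
    simp [hev, he, he', mul_add]
    ring
  | mul x y _ _ hx hy =>
    obtain ⟨s, a, hs, he⟩ := hx
    obtain ⟨t, b, ht, he'⟩ := hy
    refine ⟨s * t, a * b, by simp [hs, ht], ?_⟩
    funext j
    simp [he, he']
    ring

theorem isUnit_evE (hev : ∀ r, ev (α r) = fun _ => φ r) {s : R} (hs : φ s ≠ 0) :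
    IsUnit (evE ev (α s)) := by
  rw [show evE ev (α s) = algebraMap k (E ev) (φ s) from Subtype.ext (hev s)]
  exact hs.isUnit.map _

/-- The spectrum of the algebra of functions is a subspace of `Spec A`. -/
theorem isInducing_comap (hev : ∀ r, ev (α r) = fun _ => φ r)
    (hfrac : ∀ c : k, ∃ a s : R, φ s ≠ 0 ∧ c * φ s = φ a) :
    Topology.IsInducing (PrimeSpectrum.comap (evE ev)) := by
  refine ⟨le_antisymm (PrimeSpectrum.continuous_comap _).le_induced ?_⟩
  refine le_trans (le_generateFrom ?_) PrimeSpectrum.isTopologicalBasis_basic_opens.eq_generateFrom.ge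
  rintro _ ⟨z, rfl⟩
  obtain ⟨s, a, hs, he⟩ := exists_smul_eq hev hfrac z.2
  refine isOpen_induced_iff.2 ⟨PrimeSpectrum.basicOpen a, (PrimeSpectrum.basicOpen a).2, ?_⟩
  ext P
  have : evE ev a = evE ev (α s) * z := by
    apply Subtype.ext
    show ev a = ev (α s) * (z : J → k)
    rw [he, hev]
    funext j
    simp
  show a ∉ (PrimeSpectrum.comap (evE ev) P).asIdeal ↔ z ∉ P.asIdeal
  rw [PrimeSpectrum.comap_asIdeal, Ideal.mem_comap, this, Ideal.unit_mul_mem_iff_mem _ (isUnit_evE hev hs)]

theorem range_comap (hev : ∀ r, ev (α r) = fun _ => φ r)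
    (hfrac : ∀ c : k, ∃ a s : R, φ s ≠ 0 ∧ c * φ s = φ a) :
    Set.range (PrimeSpectrum.comap (evE ev)) =
      {q : PrimeSpectrum A | RingHom.ker ev ≤ q.asIdeal ∧ q.asIdeal.comap α = RingHom.ker φ} := by
  ext q
  constructor
  · rintro ⟨P, rfl⟩
    refine ⟨fun a ha => ?_, ?_⟩
    · show evE ev a ∈ P.asIdeal
      rw [show evE ev a = 0 from Subtype.ext ha]
      exact zero_mem _
    · ext r
      show evE ev (α r) ∈ P.asIdeal ↔ φ r = 0
      refine ⟨fun h => by_contra fun hr => P.2.ne_top (Ideal.eq_top_of_isUnit_mem _ h (isUnit_evE hev hr)),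
        fun h => ?_⟩
      rw [show evE ev (α r) = 0 from Subtype.ext (by rw [show ((evE ev (α r) : E ev) : J → k) = ev (α r) from rfl, hev, h]; rfl)]
      exact zero_mem _
  · rintro ⟨hker, hcomap⟩
    have hunit : ∀ {s : R}, φ s ≠ 0 → α s ∉ q.asIdeal := fun {s} hs h =>
      hs (show s ∈ RingHom.ker φ from hcomap ▸ h)
    rw [PrimeSpectrum.mem_range_comap_iff]
    refine le_antisymm (fun b hb => ?_) Ideal.le_comap_map
    suffices ∀ x ∈ q.asIdeal.map (evE ev), ∃ (s : R) (a : A), φ s ≠ 0 ∧ a ∈ q.asIdeal ∧ φ s • (x : J → k) = ev a by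
      obtain ⟨s, a, hs, ha, he⟩ := this _ hb
      have hmem : α s * b - a ∈ q.asIdeal := hker (by
        rw [RingHom.mem_ker, map_sub, map_mul, ← he, hev, sub_eq_zero]
        rfl)
      have := add_mem hmem ha
      rw [sub_add_cancel] at this
      exact (q.2.mem_or_mem this).resolve_left (hunit hs)
    intro x hx
    induction hx using Submodule.span_induction with
    | mem x hx =>
      obtain ⟨a, ha, rfl⟩ := hx
      exact ⟨1, a, by simp, ha, by simp; rfl⟩
    | zero => exact ⟨1, 0, by simp, zero_mem _, by simp⟩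
    | add x y _ _ hx hy =>
      obtain ⟨s, a, hs, ha, he⟩ := hx
      obtain ⟨t, b, ht, hb, he'⟩ := hy
      refine ⟨s * t, α t * a + α s * b, by simp [hs, ht],
        add_mem (Ideal.mul_mem_left _ _ ha) (Ideal.mul_mem_left _ _ hb), ?_⟩
      funext j
      simp [hev, ← he, ← he', mul_add]
      ring
    | smul r x _ hx =>
      obtain ⟨s, a, hs, ha, he⟩ := hx
      obtain ⟨t, b, ht, hb⟩ := exists_smul_eq hev hfrac r.2
      refine ⟨t * s, b * a, by simp [hs, ht], Ideal.mul_mem_left _ _ ha, ?_⟩
      funext j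
      simp [hb, ← he]
      ring

theorem natCast_le_dim (hα : α.FiniteType) (hev : ∀ r, ev (α r) = fun _ => φ r) {d : ℕ} (x : Fin d → A)
    (hx : ∀ Q : MvPolynomial (Fin d) k, (∀ j, eval (fun l => ev (x l) j) Q = 0) → Q = 0) :
    (d : WithBot ℕ∞) ≤ ringKrullDim (E ev) := by
  haveI := finiteType_E hα hev
  let g : MvPolynomial (ULift.{u} (Fin d)) k →ₐ[k] E ev := aeval fun l => evE ev (x l.down)
  have hg : Function.Injective g := by
    refine (injective_iff_map_eq_zero g).2 fun P hP => ?_
    have h2 : ∀ j, ((Pi.evalAlgHom k (fun _ : J => k) j).comp ((E ev).val.comp g)) P =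
        eval (fun l : ULift (Fin d) => ev (x l.down) j) P := by
      intro j
      rw [comp_aeval, comp_aeval, aeval_eq_eval]
      rfl
    refine rename_injective _ ULift.down_injective ((hx _ fun j => ?_).trans (map_zero _).symm)
    rw [eval_rename]
    refine (h2 j).symm.trans ?_
    simp [hP]
  simpa using BertiniAff.le_ringKrullDim_of_injective g hg

theorem exists_dim_eq (hα : α.FiniteType) (hev : ∀ r, ev (α r) = fun _ => φ r)
    (hfrac : ∀ c : k, ∃ a s : R, φ s ≠ 0 ∧ c * φ s = φ a) [Nonempty J] :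
    ∃ (d : ℕ) (x : Fin d → A), ringKrullDim (E ev) = d ∧
      ∀ Q : MvPolynomial (Fin d) k, (∀ j, eval (fun l => ev (x l) j) Q = 0) → Q = 0 := by
  haveI := finiteType_E hα hev
  obtain ⟨d, g, hg, hfin⟩ := exists_finite_inj_algHom_of_fg k (E ev)
  have hdim : ringKrullDim (E ev) = d := by
    letI := g.toRingHom.toAlgebra
    haveI : FaithfulSMul (MvPolynomial (Fin d) k) (E ev) :=
      (faithfulSMul_iff_algebraMap_injective _ _).2 hg
    haveI : Module.Finite (MvPolynomial (Fin d) k) (E ev) := hfin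
    rw [VarDim.ringKrullDim_eq_of_isIntegral (R := MvPolynomial (Fin d) k),
      MvPolynomial.ringKrullDim_of_isNoetherianRing, ringKrullDim_eq_zero_of_field, zero_add]
    simp
  choose s x hs he using fun l : Fin d => exists_smul_eq hev hfrac (g (X l)).2
  refine ⟨d, x, hdim, fun Q hQ => ?_⟩
  let σ : MvPolynomial (Fin d) k →ₐ[k] MvPolynomial (Fin d) k := aeval fun l => φ (s l) • X l
  let τ : MvPolynomial (Fin d) k →ₐ[k] MvPolynomial (Fin d) k := aeval fun l => (φ (s l))⁻¹ • X l
  have hτσ : τ.comp σ = AlgHom.id k _ := algHom_ext fun l => by simp [σ, τ, smul_smul, hs l]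
  have hgσ : g (σ Q) = 0 := by
    apply Subtype.ext
    funext j
    have h2 : ((Pi.evalAlgHom k (fun _ : J => k) j).comp ((E ev).val.comp g)).comp σ =
        aeval (fun l => ev (x l) j) := algHom_ext fun l => by simp [σ, he]
    have := AlgHom.congr_fun h2 Q
    rw [aeval_eq_eval] at this
    exact this.trans (hQ j)
  have := congrArg τ ((injective_iff_map_eq_zero g).1 hg _ hgσ)
  rwa [map_zero, ← AlgHom.comp_apply, hτσ, AlgHom.id_apply] at this

end Values

end Groth.Agent.SectDim
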